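import Cfsg.Agent.H708.O8.Defs
import Cfsg.Agent.H915.LD

/-!
# COV-O8+: the normaliser of a group of symplectic type in `GL₈(q)` (helper834)

`card_dvd` : the order of a subgroup of the normaliser of a group `R` of symplectic type divides
`|R| (q - 1) |Sp_{2m}(s)|`.
-/

set_option autoImplicit false

namespace Cfsg.Agent.H708.O8

open Module QuadraticMap Cfsg Cfsg.Geo Cfsg.Agent.LieClassical.OrthCore Cfsg.Agent.H955 Cfsg.Agent.H954.TSing
open Cfsg.Agent.LieClassical.OmegaReindex Cfsg.Agent.H915.LD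
open Cfsg.Agent.H951 (fx cm Inv)
open Cfsg.Agent.H884.El
open Cfsg.Agent.H436 (Prim)
open scoped MatrixGroups Matrix

section gen

variable {ι : Type} [Fintype ι] [DecidableEq ι] {F : Type*} [Field F] [Fintype F]

theorem exists_coord_of [Nonempty ι] {s m : ℕ} {R : Subgroup (GL ι F)}
    (habs : ActsAbsolutelyIrreducibly (matrixSet R)) (hR : IsSymplecticTypeGroup s R) (hm : 1 ≤ m)
    (hcard : Fintype.card ι = s ^ m)
    (ht : (Odd s ∧ Nat.card (Subgroup.center R) = s ∧ Nat.card R = s ^ (1 + 2 * m)) ∨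
       (s = 2 ∧ Nat.card (Subgroup.center R) = 4 ∧ Nat.card R = 2 ^ (2 + 2 * m)) ∨
       (s = 2 ∧ Nat.card (Subgroup.center R) = 2 ∧ Nat.card R = 2 ^ (1 + 2 * m))) :
    Nonempty (H920.Coord R s m) := by
  have hfin : Finite (GL ι F) := inferInstance
  have hpr := Fact.mk hR.prime
  have hcomm : ∀ x ∈ R, ∀ y ∈ R, x * y * x⁻¹ * y⁻¹ ∈ scalars ι F := by
    intro x hx y hy
    have hZ : Odd s → Nat.card (Subgroup.center R) = s := by
      intro hodd
      rcases ht with h | h | h
      · exact h.2.1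
      · rw [h.1] at hodd; exact absurd hodd (by decide)
      · rw [h.1] at hodd; exact absurd hodd (by decide)
    exact H920.mem_scalars_of_mem_center habs (H921.commutator_mem_center hR hZ ⟨x, hx⟩ ⟨y, hy⟩)
  have hpow : ∀ x ∈ R, x ^ s ∈ scalars ι F := by
    rcases ht with h | h | h
    · exact H920.pow_of_type hR habs (Or.inl h)
    · exact H920.pow_of_type hR habs (Or.inr h)
    · obtain ⟨rfl, hZ, -⟩ := h
      intro x hx
      have hexp : Monoid.exponent R = 4 := by rw [hR.exponent_eq]; norm_num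
      have h4 : ∀ q : R, q ^ 4 = 1 := fun q => by rw [← hexp]; exact Monoid.pow_exponent_eq_one q
      have : Nontrivial (Subgroup.center R) := Finite.one_lt_card_iff_nontrivial.1 (by rw [hZ]; norm_num)
      obtain ⟨z, hz⟩ := exists_ne (1 : Subgroup.center R)
      have hz2 : orderOf z = 2 := by
        have h1 : orderOf z ∣ 2 := by rw [← hZ]; exact orderOf_dvd_natCard z
        rcases (Nat.dvd_prime Nat.prime_two).1 h1 with h2 | h2
        · exact absurd (orderOf_eq_one_iff.1 h2) hz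
        · exact h2
      have hz2' : orderOf (z : R) = 2 := by rw [Subgroup.orderOf_coe, hz2]
      have hst := (Cfsg.Agent.ClassificationK.SymplecticExpFour.structure_exp_four
        ⟨hR.pGroup, hR.cyclic_of_characteristic⟩ h4 hz2' z.2).2.1 ⟨x, hx⟩
      rcases hst with h | h
      · have h5 : x ^ 2 = 1 := congrArg Subtype.val h
        rw [h5]; exact Subgroup.one_mem _
      · have h5 : x ^ 2 = ((z : R) : GL ι F) := congrArg Subtype.val h
        rw [h5]; exact H920.mem_scalars_of_mem_center habs z.2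
  exact H920.exists_coord habs hcomm hR.prime hm hpow hcard

theorem card_dvd_of_coord [Nonempty ι] {r k : ℕ} {R H : Subgroup (GL ι F)} (hr : r.Prime)
    (habs : ActsAbsolutelyIrreducibly (matrixSet R)) (C : H920.Coord R r k) (hH : H ≤ subgroupNormalizer R) :
    Nat.card H ∣ Nat.card R * (Nat.card F - 1) * Nat.card (Matrix.symplecticGroup (Fin k) (ZMod r)) := by
  have hfin : Finite (GL ι F) := inferInstance
  have hrF := Fact.mk hr
  let ψ : H →* Matrix.symplecticGroup (Fin k) (ZMod r) :=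
    MonoidHom.mk' (fun g => ⟨(C.exists_ind_of_mem (hH g.2)).choose, (C.exists_ind_of_mem (hH g.2)).choose_spec.1⟩) (by
      intro g h
      apply Subtype.ext
      exact ((C.exists_ind_of_mem (hH (g * h).2)).choose_spec.2).unique
        (((C.exists_ind_of_mem (hH g.2)).choose_spec.2).mul ((C.exists_ind_of_mem (hH h.2)).choose_spec.2)))
  have hψ : ∀ g : H, C.Ind (g : GL ι F) (ψ g : Matrix (Fin k ⊕ Fin k) (Fin k ⊕ Fin k) (ZMod r)) := fun g =>
    (C.exists_ind_of_mem (hH g.2)).choose_spec.2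
  have h1 : Nat.card H = Nat.card ψ.ker * Nat.card ψ.range := by
    rw [Subgroup.card_eq_card_quotient_mul_card_subgroup ψ.ker, mul_comm]
    congr 1
    exact Nat.card_congr (QuotientGroup.quotientKerEquivRange ψ).toEquiv
  have h2 : Nat.card ψ.range ∣ Nat.card (Matrix.symplecticGroup (Fin k) (ZMod r)) := Subgroup.card_subgroup_dvd_card _
  have h3 : Nat.card ψ.ker ∣ Nat.card R * (Nat.card F - 1) := by
    have h4 : ψ.ker.map H.subtype ≤ R ⊔ scalars ι F := by
      rintro _ ⟨g, hg, rfl⟩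
      have h5 := hψ g
      have h6 : ψ g = 1 := hg
      rw [h6] at h5
      obtain ⟨x, hx⟩ := C.mem_of_ind_one habs h5
      have h2 := Subgroup.mul_mem_sup x.2 hx
      rwa [mul_inv_cancel_left] at h2
    have h5 : Nat.card (ψ.ker.map H.subtype) = Nat.card ψ.ker :=
      Nat.card_congr (ψ.ker.equivMapOfInjective _ H.subtype_injective).symm.toEquiv
    rw [← h5]
    refine (Subgroup.card_dvd_of_le h4).trans ?_
    refine (H251.GeoCard.card_sup_dvd _ _ fun z hz g => H251.GeoCard.scalars_central hz g).trans ?_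
    exact mul_dvd_mul_left _ H251.GeoCard.card_scalars_dvd
  rw [h1]
  exact mul_dvd_mul h3 h2

end gen

variable {F : Type} [Field F] [Fintype F] {p a r b : ℕ}

/-- G5: groups of symplectic type -/
theorem kill_symp (hF : Nat.card F = p ^ a) (h : RB p a r b) {s m : ℕ} {E H : Subgroup (GL I8 F)} (hE : E ≤ H)
    (hH : H ≤ subgroupNormalizer E)
    (habs : ActsAbsolutelyIrreducibly (matrixSet E)) (hR : IsSymplecticTypeGroup s E) (hm : 1 ≤ m)
    (hcard : Fintype.card I8 = s ^ m)
    (ht : (Odd s ∧ Nat.card (Subgroup.center E) = s ∧ Nat.card E = s ^ (1 + 2 * m)) ∨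
       (s = 2 ∧ Nat.card (Subgroup.center E) = 4 ∧ Nat.card E = 2 ^ (2 + 2 * m)) ∨
       (s = 2 ∧ Nat.card (Subgroup.center E) = 2 ∧ Nat.card E = 2 ^ (1 + 2 * m))) : ¬ r ^ 2 ∣ Nat.card H := by
  intro hdvd
  obtain ⟨C⟩ := exists_coord_of habs hR hm hcard ht
  have h8 : s ^ m = 2 ^ 3 := by rw [← hcard]; simp
  have hs2 : s = 2 := by
    have h1 : s ∣ 2 ^ 3 := by rw [← h8]; exact dvd_pow_self _ (by omega)
    exact (Nat.prime_dvd_prime_iff_eq hR.prime Nat.prime_two).1 (hR.prime.dvd_of_dvd_pow h1)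
  subst hs2
  have hm3 : m = 3 := Nat.pow_right_injective (le_refl 2) h8
  subst hm3
  have hr := h.prim.prime
  have hr5 : 5 ≤ r ∧ r ≠ 7 := by
    rcases h.cases with h1 | h1 | h1 <;> omega
  have hdvd' := hdvd.trans (card_dvd_of_coord Nat.prime_two habs C hH)
  have hc1 : Nat.Coprime (r ^ 2) (Nat.card E) := by
    obtain ⟨n, hn⟩ : ∃ n, Nat.card E = 2 ^ n := by
      rcases ht with h1 | h1 | h1
      · exact absurd h1.1 (by decide)
      · exact ⟨_, h1.2.2⟩
      · exact ⟨_, h1.2.2⟩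
    rw [hn]
    exact Nat.Coprime.pow _ _ ((Nat.coprime_primes hr Nat.prime_two).2 (by omega))
  have hc2 : Nat.Coprime (r ^ 2) (Nat.card F - 1) := by
    apply Nat.Coprime.pow_left
    rw [hr.coprime_iff_not_dvd, hF, h.prim.dvd_iff]
    intro h1
    have h2 := Nat.le_of_dvd h.ha h1
    have h3 := h.ha
    omega
  have h1 := (Nat.Coprime.mul_right hc1 hc2).dvd_of_dvd_mul_left hdvd'
  rw [LieClassical.SympCount.card_symplecticGroup, ZMod.card] at h1
  have h2 : (2 : ℕ) ^ (3 ^ 2) * ∏ i ∈ Finset.range 3, (2 ^ (2 * (i + 1)) - 1) = 2 ^ 9 * 3 ^ 4 * (5 * 7) := by decide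
  rw [h2] at h1
  have c2 : Nat.Coprime (r ^ 2) (2 ^ 9) := Nat.Coprime.pow _ _ ((Nat.coprime_primes hr Nat.prime_two).2 (by omega))
  have c3 : Nat.Coprime (r ^ 2) (3 ^ 4) := Nat.Coprime.pow _ _ ((Nat.coprime_primes hr Nat.prime_three).2 (by omega))
  have h3 := (Nat.Coprime.mul_right c2 c3).dvd_of_dvd_mul_left h1
  have h4 := Nat.le_of_dvd (by norm_num) h3
  have h5 : r < 6 := by nlinarith
  have h6 : r = 5 := by omega
  subst h6
  norm_num at h3

end Cfsg.Agent.H708.O8
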